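import Groth.Agent.H26.SmoothMinimal
import Groth.Agent.H26.DedMin.Closure
import Groth.Agent.H26.ClosedConst
import Groth.Agent.NQF.ModelConn
import Groth.Agent.GrpSchLib.SmoothRegular
import Groth.Agent.S7603
import Groth.Agent.Snapper.DimVanish
import Groth.Prelude.Def_Models

/-!
# The closed fibre of a regular proper model of a curve
-/

set_option autoImplicit false
set_option linter.style.haveILetI false
set_option linter.unusedSectionVars false
set_option backward.isDefEq.respectTransparency false
set_option backward.isDefEq.respectTransparency.types false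
set_option maxHeartbeats 1000000

universe u

open CategoryTheory CategoryTheory.Limits AlgebraicGeometry TopologicalSpace Opposite

noncomputable section

namespace Groth.Agent.H26.PicRoot

open Groth.Agent

/-- A closed subscheme missing all the maximal points has smaller dimension. -/
theorem dim_le_one_of_generalization {W X : Scheme.{u}} (i : W ⟶ X) [IsClosedImmersion i]
    (hX : topologicalKrullDim X ≤ 2) (hgen : ∀ w : W, ∃ y : X, y ⤳ i w ∧ y ∉ Set.range i) :
    topologicalKrullDim W ≤ 1 := by
  rw [topologicalKrullDim, Order.krullDim_eq_of_orderIso (irreducibleSetEquivPoints (α := W))]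
  refine iSup_le fun q => ?_
  by_contra hlen
  rw [not_le] at hlen
  have hlen' : 2 ≤ q.length := by exact_mod_cast hlen
  have hmono : ∀ a b : W, a < b → i a < i b := fun a b h =>
    lt_of_le_of_ne (show i a ≤ i b from (show b ⤳ a from h.le).map i.continuous)
      fun e => h.ne (i.isClosedEmbedding.injective e)
  obtain ⟨y, hy, hyr⟩ := hgen (q ⟨2, by omega⟩)
  have h1 : i (q ⟨0, by omega⟩) < i (q ⟨1, by omega⟩) := hmono _ _ (q.strictMono (Fin.mk_lt_mk.2 (by omega)))
  have h2 : i (q ⟨1, by omega⟩) < i (q ⟨2, by omega⟩) := hmono _ _ (q.strictMono (Fin.mk_lt_mk.2 (by omega)))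
  have h3 : i (q ⟨2, by omega⟩) < y :=
    lt_of_le_of_ne (show i (q ⟨2, by omega⟩) ≤ y from hy) fun e => hyr ⟨_, e⟩
  let s : LTSeries X :=
    ((RelSeries.singleton _ (i (q ⟨0, by omega⟩))).snoc (i (q ⟨1, by omega⟩))
      (show @LT.lt X _ _ _ from by simpa using h1)).snoc (i (q ⟨2, by omega⟩))
      (show @LT.lt X _ _ _ from by simpa using h2) |>.snoc y
      (show @LT.lt X _ _ _ from by simpa using h3)
  have h4 : ((s.length : ℕ) : WithBot ℕ∞) ≤ topologicalKrullDim X := by
    rw [topologicalKrullDim, Order.krullDim_eq_of_orderIso (irreducibleSetEquivPoints (α := X))]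
    exact Order.LTSeries.length_le_krullDim s
  have h5 := h4.trans hX
  have h6 : s.length = 3 := rfl
  rw [h6] at h5
  exact absurd h5 (by decide)

variable {R : Type u} [CommRing R] [IsDomain R] [IsDiscreteValuationRing R]

theorem range_residue :
    Set.range (Spec.map (CommRingCat.ofHom (algebraMap R (IsLocalRing.ResidueField R)))) =
      {IsLocalRing.closedPoint R} := by
  have h : ∀ w, Spec.map (CommRingCat.ofHom (algebraMap R (IsLocalRing.ResidueField R))) w =
      IsLocalRing.closedPoint R := fun w => by
    refine PrimeSpectrum.ext ?_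
    show Ideal.comap (IsLocalRing.residue R) w.asIdeal = IsLocalRing.maximalIdeal R
    rw [(Ideal.eq_bot_or_top w.asIdeal).resolve_right w.isPrime.ne_top, ← RingHom.ker_eq_comap_bot,
      IsLocalRing.ker_residue]
  exact subset_antisymm (fun _ ⟨w, hw⟩ => hw ▸ h w)
    (Set.singleton_subset_iff.2 ⟨IsLocalRing.closedPoint _, h _⟩)

/-- The closed fibre of a regular proper model of a connected smooth curve is at most one-dimensional. -/
theorem dim_specialFibre_le_one {C X : Scheme.{u}} (fC : C ⟶ Spec (CommRingCat.of (FractionRing R)))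
    [IsProper fC] [Smooth fC] (hC0 : Models.hRank (FractionRing R) C fC (Coh.structureModule C) 0 = 1)
    (hC1 : topologicalKrullDim C = 1) (p : X ⟶ Spec (CommRingCat.of R))
    (hX : Models.IsRegularProperModel R X p C fC) :
    topologicalKrullDim ↥(pullback p (Spec.map (CommRingCat.ofHom (algebraMap R (IsLocalRing.ResidueField R))))) ≤ 1 := by
  haveI := ModelConn.geometricallyConnected_model p fC hX (ClosedConst.bijective_appTop_of_hRank fC hC0)
  obtain ⟨⟨hfl, -, -, g, sq⟩, hp, hreg⟩ := hX
  haveI := hfl
  haveI := hp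
  let j : Spec (CommRingCat.of (FractionRing R)) ⟶ Spec (CommRingCat.of R) :=
    Spec.map (CommRingCat.ofHom (algebraMap R (FractionRing R)))
  haveI hcp : ConnectedSpace ↥(pullback p j) :=
    GeometricallyConnected.geometrically_connectedSpace (f := p) _ _ _ (IsPullback.of_hasPullback _ _)
  haveI : ConnectedSpace C := by
    let e := sq.isoPullback
    exact e.inv.surjective.connectedSpace e.inv.continuous
  haveI : IsLocallyNoetherian C := LocallyOfFiniteType.isLocallyNoetherian fC
  haveI : CompactSpace C := QuasiCompact.compactSpace_of_compactSpace fC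
  haveI : IsNoetherian C := ⟨⟩
  have hCreg := GrpSchLib.isRegularLocalRing_stalk_of_smooth fC
  haveI : IrreducibleSpace C := S7603.irreducibleSpace_of_isDomain_stalk fun c => by
    haveI := hCreg c
    exact RegLoc6.isDomain_of_isRegularLocalRing _
  haveI : IsIntegral C := SmoothMinimal.isIntegral_of_regular hCreg
  have hj : ∀ a, j a = genericPoint (Spec (CommRingCat.of R)) := fun a => by
    have h : j a ∈ Set.range (Neron.genPt R) := ⟨a, rfl⟩
    rw [SmoothMinimal.range_genPt] at h
    exact h
  have hrg : Set.range g = p ⁻¹' {genericPoint (Spec (CommRingCat.of R))} := by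
    rw [← sq.isoPullback_hom_fst, Scheme.Hom.comp_base, TopCat.coe_comp, Set.range_comp,
      Set.range_eq_univ.2 sq.isoPullback.hom.surjective, Set.image_univ, Scheme.Pullback.range_fst]
    exact congrArg (p ⁻¹' ·) (SmoothMinimal.range_genPt (R := R))
  have hlift : ∀ x : X, ∃ c : C, g c ⤳ x := fun x => by
    obtain ⟨y, hy, hye⟩ := Flat.generalizingMap (f := p) (genericPoint_specializes (p x))
    obtain ⟨c, hc⟩ := hrg.ge hye
    exact ⟨c, hc ▸ hy⟩
  have hη : ∀ x : X, g (genericPoint C) ⤳ x := fun x => by
    obtain ⟨c, hc⟩ := hlift x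
    exact ((genericPoint_specializes c).map g.continuous).trans hc
  haveI : IrreducibleSpace X := by
    haveI : PreirreducibleSpace X := ⟨fun u v hu hv ⟨a, _, ha⟩ ⟨b, _, hb⟩ =>
      ⟨g (genericPoint C), trivial, (hη a).mem_open hu ha, (hη b).mem_open hv hb⟩⟩
    exact ⟨⟨g (genericPoint C)⟩⟩
  haveI : IsIntegral X := SmoothMinimal.isIntegral_of_regular hreg
  haveI : IsPreimmersion j := IsPreimmersion.of_isLocalization (nonZeroDivisors R)
  have hX2 := DedMin.dim_le_two j hj fC p g sq ((hη _).antisymm (genericPoint_specializes _)).eq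
    FibDimOne.topologicalKrullDim_spec.le hC1
  haveI : IsClosedImmersion (Spec.map (CommRingCat.ofHom (algebraMap R (IsLocalRing.ResidueField R)))) :=
    IsClosedImmersion.spec_of_surjective _ IsLocalRing.residue_surjective
  refine dim_le_one_of_generalization (pullback.fst p _) hX2 fun w => ?_
  obtain ⟨c, hc⟩ := hlift (pullback.fst p (Spec.map (CommRingCat.ofHom (algebraMap R (IsLocalRing.ResidueField R)))) w)
  refine ⟨g c, hc, fun h => ?_⟩
  rw [Scheme.Pullback.range_fst, range_residue] at h
  have h1 : p (g c) = genericPoint (Spec (CommRingCat.of R)) := hrg.le ⟨c, rfl⟩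
  rw [Set.mem_preimage, h1, genericPoint_eq_bot_of_affine (CommRingCat.of R)] at h
  exact IsDiscreteValuationRing.not_a_field R (congrArg PrimeSpectrum.asIdeal h).symm

end Groth.Agent.H26.PicRoot
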