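import Groth.Agent.RootLift.Main
import Groth.Agent.H23.CocycleMod
import Groth.Agent.AmpleX.Extend
import Groth.Agent.InvX.GenLocusPull
import Groth.Agent.Lib.FramesTrans
import Mathlib.AlgebraicGeometry.Morphisms.ClosedImmersion
import Mathlib.AlgebraicGeometry.Morphisms.Affine

/-!
Roots of invertible modules lift along square-zero thickenings when the exponent is invertible.
-/

set_option autoImplicit false
set_option linter.unusedSectionVars false
set_option linter.style.haveILetI false
set_option backward.isDefEq.respectTransparency false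
set_option backward.isDefEq.respectTransparency.types false
set_option maxHeartbeats 800000

universe u

open CategoryTheory CategoryTheory.Limits AlgebraicGeometry TopologicalSpace Opposite

noncomputable section

namespace Groth.Agent.H26.PicRoot

open Groth.Agent.AModX Groth.Agent.InvX Groth.Agent.RootLift
open Groth.Agent.GrLib8.PicH1 (rU rU_rU coe_rU iso_of_transitions)

variable {X X' : Scheme.{u}} {i : X' ⟶ X} (hsq : SqZero i)

include hsq

/-- Lifting of roots, with control on the restriction. -/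
theorem exists_root_lift_res [IsClosedImmersion i] [IsAffineHom (pullback.diagonal (terminal.from X))] {n : ℕ}
    (hn : IsUnit (n : Γ(X, ⊤))) {L : X.Modules} (hL : PicF.IsInvertible L) {L' : X'.Modules}
    (hL' : PicF.IsInvertible L') (φ : CohB1.tensorPow L' n ≅ (Scheme.Modules.pullback i).obj L) :
    ∃ M : X.Modules, PicF.IsInvertible M ∧ Nonempty (CohB1.tensorPow M n ≅ L) ∧
      Nonempty ((Scheme.Modules.pullback i).obj M ≅ L') := by
  obtain ⟨FL⟩ := FramesTrans.nonempty_frames hL
  obtain ⟨FL'⟩ := FramesTrans.nonempty_frames hL'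
  have hV0 : ∀ y : X', ∃ V : X.Opens, IsAffineOpen V ∧ i y ∈ V ∧ V ≤ FL.U (i y) ∧ i ⁻¹ᵁ V ≤ FL'.U y := by
    intro y
    obtain ⟨O, hO, hOeq⟩ := i.isClosedEmbedding.isInducing.isOpen_iff.1 (FL'.U y).2
    have hy : y ∈ i ⁻¹' O := by rw [hOeq]; exact FL'.mem y
    obtain ⟨V, hV, hyV, hle⟩ := exists_isAffineOpen_mem_and_subset (x := i y)
      (U := FL.U (i y) ⊓ ⟨O, hO⟩) ⟨FL.mem _, hy⟩
    exact ⟨V, hV, hyV, fun z hz => (hle hz).1, fun z hz => hOeq.le (show z ∈ i ⁻¹' O from (hle hz).2)⟩
  choose V hV hyV hVL hVL' using hV0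
  have hcov : ∀ x, ∃ a, x ∈ V a := fun x => by
    obtain ⟨y, rfl⟩ := surjective hsq x
    exact ⟨y, hyV y⟩
  let l : ∀ a, Γ(L, V a) := fun a => res L (hVL a) (FL.e (i a))
  have hl : ∀ a, IsFrame (l a) := fun a => (FL.he (i a)).res _
  let e' : ∀ a, Γ(L', i ⁻¹ᵁ V a) := fun a => res L' (hVL' a) (FL'.e a)
  have he' : ∀ a, IsFrame (e' a) := fun a => (FL'.he a).res _
  let W2 : X' → X' → X.Opens := fun a b => V a ⊓ V b
  have hW2 : ∀ a b, IsAffineOpen (W2 a b) := fun a b => (hV a).inf (hV b)
  have h2l : ∀ a b, W2 a b ≤ V a := fun a b => inf_le_left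
  have h2r : ∀ a b, W2 a b ≤ V b := fun a b => inf_le_right
  choose lt hlt using fun a b => GrLib8.PicH1.exists_unit ((hl b).res (h2r a b)) ((hl a).res (h2l a b))
  choose g' hg' using fun a b => GrLib8.PicH1.exists_unit ((he' b).res (i.preimage_mono (h2r a b)))
    ((he' a).res (i.preimage_mono (h2l a b)))
  let PL := (Scheme.Modules.pullback i).obj L
  have hpl : ∀ a, IsFrame (U := i ⁻¹ᵁ V a) (pullElt i (l a)) := fun a => isFrame_pullElt i (hl a)
  choose u' hu' using fun a => GrLib8.PicH1.exists_unit (hpl a)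
    ((AmpleX.isFrame_powElt (he' a) n).map_iso φ)
  choose u hu using fun a => exists_lift hsq (hV a) (u' a)
  choose g hg using fun a b => exists_lift hsq (hW2 a b) (g' a b)
  -- the compatibility upstairs
  have hrel : ∀ a b, rU (i.preimage_mono (h2l a b)) (u' a) * p i (W2 a b) (lt a b) =
      g' a b ^ n * rU (i.preimage_mono (h2r a b)) (u' b) := fun a b => by
    refine Units.ext ((hpl b).coord_unique (i.preimage_mono (h2r a b)) ?_)
    have h1 : res PL (i.preimage_mono (h2l a b)) (φ.hom.app _ (AmpleX.powElt (e' a) n)) =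
        ((g' a b ^ n : Γ(X', i ⁻¹ᵁ W2 a b)ˣ) : Γ(X', i ⁻¹ᵁ W2 a b)) •
          res PL (i.preimage_mono (h2r a b)) (φ.hom.app _ (AmpleX.powElt (e' b) n)) := by
      rw [← app_res, ← app_res, AmpleX.res_powElt, AmpleX.res_powElt, hg' a b, AmpleX.powElt_smul,
        Units.val_pow_eq_pow_val]
      exact Scheme.Modules.Hom.app_smul _ _ _
    rw [hu' a, hu' b, res_smul, res_smul, smul_smul, res_pullElt i (h2l a b), res_pullElt i (h2r a b), hlt a b, InvX.pullElt_smul,
      smul_smul] at h1
    rw [res_pullElt i (h2r a b), Units.val_mul, Units.val_mul]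
    exact h1
  -- the corrected transitions
  have hn' : ∀ W : X.Opens, IsUnit (n : Γ(X, W)) := fun W => by
    simpa using hn.map (resR (show W ≤ ⊤ from le_top))
  let num : ∀ a b, Γ(X, W2 a b)ˣ := fun a b => g a b ^ n * rU (h2r a b) (u b)
  let den : ∀ a b, Γ(X, W2 a b)ˣ := fun a b => rU (h2l a b) (u a) * lt a b
  have hr : ∀ a b, p i (W2 a b) (num a b / den a b) = 1 := fun a b => by
    rw [map_div, div_eq_one, map_mul, map_mul, map_pow, hg, p_rU, p_rU, hu, hu]
    exact (hrel a b).symm
  choose s hs hps using fun a b => exists_root hsq (hW2 a b) (hn' _) (num a b / den a b) (hr a b)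
  let G : ∀ a b, Γ(X, W2 a b)ˣ := fun a b => g a b / s a b
  have hG : ∀ a b, G a b ^ n * rU (h2r a b) (u b) = rU (h2l a b) (u a) * lt a b := fun a b => by
    rw [div_pow, hs, div_div_eq_mul_div, div_mul_eq_mul_div, div_eq_iff_eq_mul]
    simp only [num, den]
    ac_rfl
  have hpG : ∀ a b, p i (W2 a b) (G a b) = g' a b := fun a b => by rw [map_div, hg, hps, div_one]
  -- the cocycle condition
  have hco : ∀ (a b c : X') (T : X.Opens) (ha : T ≤ V a) (hb : T ≤ V b) (hc : T ≤ V c), IsAffineOpen T →
      rU (le_inf ha hc) (G a c) = rU (le_inf hb hc) (G b c) * rU (le_inf ha hb) (G a b) := by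
    intro a b c T ha hb hc hT
    refine div_eq_one.1 (eq_one_of_pow hsq hT (hn' T) _ ?_ ?_)
    · rw [map_div, map_mul, div_eq_one, p_rU, p_rU, p_rU, hpG, hpG, hpG]
      refine Units.ext ((he' c).coord_unique (i.preimage_mono hc) ?_)
      have h : ∀ (a b : X') (ha : T ≤ V a) (hb : T ≤ V b), res L' (i.preimage_mono ha) (e' a) =
          resR (i.preimage_mono (le_inf ha hb)) (g' a b : Γ(X', i ⁻¹ᵁ W2 a b)) •
            res L' (i.preimage_mono hb) (e' b) := fun a b ha hb => by
        have := congrArg (res L' (i.preimage_mono (le_inf ha hb : T ≤ W2 a b))) (hg' a b)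
        rw [res_smul] at this
        exact ((res_res _ _ _).symm.trans this).trans (congrArg (_ • ·) (res_res _ _ _))
      rw [coe_rU, ← h a c ha hc, Units.val_mul, coe_rU, coe_rU, h a b ha hb, h b c hb hc, smul_smul, mul_comm]
    · have e : ∀ (a b : X') (ha : T ≤ V a) (hb : T ≤ V b),
          rU (le_inf ha hb) (G a b) ^ n * rU hb (u b) = rU ha (u a) * rU (le_inf ha hb) (lt a b) :=
        fun a b ha hb => by
          have := congrArg (rU (le_inf ha hb : T ≤ W2 a b)) (hG a b)
          rwa [map_mul, map_mul, map_pow, rU_rU, rU_rU] at this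
      refine pow_quot (e a b ha hb) (e a c ha hc) (e b c hb hc) ?_
      refine Units.ext ((hl c).coord_unique hc ?_)
      have h : ∀ (a b : X') (ha : T ≤ V a) (hb : T ≤ V b), res L ha (l a) =
          resR (le_inf ha hb) (lt a b : Γ(X, W2 a b)) • res L hb (l b) := fun a b ha hb => by
        have := congrArg (res L (le_inf ha hb : T ≤ W2 a b)) (hlt a b)
        rw [res_smul] at this
        exact ((res_res _ _ _).symm.trans this).trans (congrArg (_ • ·) (res_res _ _ _))
      rw [coe_rU, ← h a c ha hc, Units.val_mul, coe_rU, coe_rU, h a b ha hb, h b c hb hc, smul_smul, mul_comm]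
  let co : H23.CocycleMod.Cocycle V := ⟨G, fun a b c W ha hb hc => by
    have h := congrArg (rU (le_inf (le_inf ha hb) hc : W ≤ V a ⊓ V b ⊓ V c))
      (hco a b c (V a ⊓ V b ⊓ V c) (inf_le_left.trans inf_le_left) (inf_le_left.trans inf_le_right) inf_le_right
        (((hV a).inf (hV b)).inf (hV c)))
    rw [map_mul, rU_rU, rU_rU, rU_rU] at h
    exact congrArg Units.val h⟩
  let M := H23.CocycleMod.mod co
  refine ⟨M, H23.CocycleMod.isInvertible co (top_le_iff.1 fun x _ => Opens.mem_iSup.2 (hcov x)), ?_,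
    iso_of_transitions (fun a => i ⁻¹ᵁ V a) (fun y => ⟨y, hyV y⟩)
      (fun a => pullElt i (H23.CocycleMod.frame co a)) e'
      (fun a => isFrame_pullElt i (H23.CocycleMod.isFrame_frame co a)) he' fun a b W ha hb k hk => ?_⟩
  rotate_left
  · have hW : W ≤ i ⁻¹ᵁ W2 b a := fun z hz => ⟨hb hz, ha hz⟩
    have h0 := congrArg (res L' hW) (hg' b a)
    rw [res_smul] at h0
    have hN : res L' hb (e' b) = resR hW (g' b a : Γ(X', i ⁻¹ᵁ W2 b a)) • res L' ha (e' a) :=
      ((res_res _ _ _).symm.trans h0).trans (congrArg (_ • ·) (res_res _ _ _))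
    have h := congrArg (res M (le_rfl : W2 b a ≤ W2 b a)) (H23.CocycleMod.res_frame co b a)
    rw [res_self, res_self] at h
    have hp := congrArg (fun s => res ((Scheme.Modules.pullback i).obj M) hW (pullElt i s)) h
    skip
    rw [InvX.pullElt_smul, res_smul, ← res_pullElt i (h2l b a), ← res_pullElt i (h2r b a)] at hp
    have hpi : i.app (W2 b a) (G b a : Γ(X, W2 b a)) = (g' b a : Γ(X', i ⁻¹ᵁ W2 b a)) :=
      congrArg Units.val (hpG b a)
    have hM : res ((Scheme.Modules.pullback i).obj M) hb (pullElt i (H23.CocycleMod.frame co b)) =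
        resR hW (g' b a : Γ(X', i ⁻¹ᵁ W2 b a)) •
          res ((Scheme.Modules.pullback i).obj M) ha (pullElt i (H23.CocycleMod.frame co a)) := by
      rw [← hpi]
      exact ((res_res _ _ _).symm.trans hp).trans (congrArg (_ • ·) (res_res _ _ _))
    have hk1 := (isFrame_pullElt i (H23.CocycleMod.isFrame_frame co a)).coord_unique ha (hk.symm.trans hM)
    rw [hN, hk1]
  refine iso_of_transitions V hcov (fun a => AmpleX.powElt (H23.CocycleMod.frame co a) n)
    (fun a => (u a : Γ(X, V a)) • l a) (fun a => AmpleX.isFrame_powElt (H23.CocycleMod.isFrame_frame co a) n)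
    (fun a => (hl a).isUnit_smul (u a).isUnit) fun a b W ha hb k hk => ?_
  let Gn : Γ(X, W) := resR (le_inf ha hb) (G a b : Γ(X, W2 a b)) ^ n
  have hM : res (CohB1.tensorPow M n) ha (AmpleX.powElt (H23.CocycleMod.frame co a) n) =
      Gn • res (CohB1.tensorPow M n) hb (AmpleX.powElt (H23.CocycleMod.frame co b) n) := by
    have h := congrArg (res M (le_inf ha hb)) (H23.CocycleMod.res_frame co a b)
    rw [res_smul, res_res, res_res] at h
    rw [AmpleX.res_powElt, AmpleX.res_powElt, h, AmpleX.powElt_smul]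
  have hk1 : k * Gn = 1 := (AmpleX.isFrame_powElt (H23.CocycleMod.isFrame_frame co b) n).coord_unique hb (by
    rw [one_smul, mul_smul, ← hM]
    exact hk.symm)
  have hN : res L ha ((u a : Γ(X, V a)) • l a) = Gn • res L hb ((u b : Γ(X, V b)) • l b) := by
    have h0 := congrArg (res L (le_inf ha hb : W ≤ W2 a b)) (hlt a b)
    rw [res_smul] at h0
    have h : res L ha (l a) = resR (le_inf ha hb) (lt a b : Γ(X, W2 a b)) • res L hb (l b) :=
      ((res_res _ _ _).symm.trans h0).trans (congrArg (_ • ·) (res_res _ _ _))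
    rw [res_smul, res_smul, h, smul_smul, smul_smul]
    congr 1
    have h2 := congrArg (rU (le_inf ha hb : W ≤ W2 a b)) (hG a b)
    rw [map_mul, map_mul, map_pow, rU_rU, rU_rU] at h2
    exact (congrArg Units.val h2).symm
  rw [hN, smul_smul, hk1, one_smul]

end Groth.Agent.H26.PicRoot
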