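import Groth.Agent.H26.PicRoot.RootRes
import Groth.Agent.PicLift.Algebraization
import Groth.Agent.PicLift.Adic
import Groth.Agent.S11778
import Groth.Agent.S11968

/-!
# Invertible modules over a complete local base: lifting and roots
-/

set_option autoImplicit false
set_option linter.style.haveILetI false
set_option linter.unusedSectionVars false
set_option backward.isDefEq.respectTransparency false
set_option backward.isDefEq.respectTransparency.types false
set_option maxHeartbeats 1000000

universe u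

open CategoryTheory CategoryTheory.Limits AlgebraicGeometry TopologicalSpace Opposite
open scoped Groth.Agent.H23.PicMul

noncomputable section

namespace Groth.Agent.H26.PicRoot

open Groth.Agent Groth.Agent.H23

/-- A closed immersion with square zero ideal. -/
theorem sqZero_of_ker {X Z : Scheme.{u}} (i : Z ⟶ X) [IsClosedImmersion i] (h : i.ker * i.ker = ⊥) :
    RootLift.SqZero i := by
  intro W hW a b ha hb
  have hmem : ∀ c : Γ(X, W), i.app W c = 0 → c ∈ i.ker.ideal ⟨W, hW⟩ := fun c hc => by
    rw [Scheme.Hom.ker_apply]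
    exact hc
  have h1 := Ideal.mul_mem_mul (hmem a ha) (hmem b hb)
  have h2 : i.ker.ideal ⟨W, hW⟩ * i.ker.ideal ⟨W, hW⟩ = (i.ker * i.ker).ideal ⟨W, hW⟩ := by
    rw [Scheme.IdealSheafData.ideal_mul]
    rfl
  rw [h2, h] at h1
  simpa using h1

variable {A : Type u} [CommRing A] [IsLocalRing A] [IsNoetherianRing A]
  [IsAdicComplete (IsLocalRing.maximalIdeal A) A]
  {X : Scheme.{u}} (p : X ⟶ Spec (CommRingCat.of A)) [IsProper p]

/-- A compatible system of invertible modules on the thickenings comes from an invertible module. -/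
theorem exists_of_system (L : ∀ n, (CohB1.thick p (IsLocalRing.maximalIdeal A) n).Modules)
    (hL : ∀ n, PicF.IsInvertible (L n))
    (hLt : ∀ n, Nonempty ((Scheme.Modules.pullback (CohB1.thickTrans p (IsLocalRing.maximalIdeal A) n)).obj (L (n + 1)) ≅ L n)) :
    ∃ M : X.Modules, PicF.IsInvertible M ∧
      ∀ n, Nonempty ((Scheme.Modules.pullback (CohB1.thickι p (IsLocalRing.maximalIdeal A) n)).obj M ≅ L n) := by
  let I := IsLocalRing.maximalIdeal A
  letI : X.Over (Spec (CommRingCat.of A)) := ⟨p⟩
  haveI : IsProper (X ↘ Spec (CommRingCat.of A)) := ‹IsProper p›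
  haveI : IsLocallyNoetherian X := LocallyOfFiniteType.isLocallyNoetherian p
  haveI : ∀ k, IsLocallyNoetherian (CohB1.thick (X ↘ Spec (CommRingCat.of A)) I k) := fun k => by
    haveI : IsClosedImmersion (CohB1.thickι p I k) := AmpleVan.FibreVanish.closed_thickι p I k
    exact LocallyOfFiniteType.isLocallyNoetherian (CohB1.thickι p I k)
  obtain ⟨M, hM, he⟩ := PicLift.exists_algebraize I X L (fun k => AmpleVan.isCoh_invertible (hL k)) hLt
  refine ⟨M, CurveDuality.isInvertible_of_rank_one (S7864.result A I X p M hM 1 fun k => ?_), he⟩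
  haveI : IsClosedImmersion (CohB1.thickι p I k) := AmpleVan.FibreVanish.closed_thickι p I k
  obtain ⟨e⟩ := he k
  exact PicLift.finLocFree_of_ker (CohB1.thickι p I k) (PicLift.ker_thickι p I k) M
    (H23.PicMul.isInvertible_of_iso e.symm (hL k))

variable [Flat p]

/-- Invertible modules on the closed fibre lift. -/
theorem exists_lift_zero
    (h2 : Subsingleton (Coh.HH (CohB1.thick p (IsLocalRing.maximalIdeal A) 0)
      (Coh.structureModule (CohB1.thick p (IsLocalRing.maximalIdeal A) 0)) 2))
    (L₀ : (CohB1.thick p (IsLocalRing.maximalIdeal A) 0).Modules) (hL₀ : PicF.IsInvertible L₀) :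
    ∃ M : X.Modules, PicF.IsInvertible M ∧
      Nonempty ((Scheme.Modules.pullback (CohB1.thickι p (IsLocalRing.maximalIdeal A) 0)).obj M ≅ L₀) := by
  let I := IsLocalRing.maximalIdeal A
  haveI : ∀ k, IsClosedImmersion (CohB1.thickι p I k) := fun k => AmpleVan.FibreVanish.closed_thickι p I k
  haveI : X.IsSeparated := ⟨by rw [← terminal.comp_from p]; infer_instance⟩
  haveI : (CohB1.thick p I 0).IsSeparated := ⟨by
    rw [← terminal.comp_from (CohB1.thickι p I 0)]; infer_instance⟩
  obtain ⟨L, hL, ⟨θ⟩, hLs⟩ := S11778.result A (fun k => CohB1.thick p I k) (fun k => CohB1.thickToBase p I k)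
    (fun k => CohB1.thickTrans p I k) (fun k => AmpleVan.FibreVanish.cart p I k)
    (fun k => inferInstanceAs (Flat (pullback.snd p _))) h2 L₀ hL₀
  obtain ⟨M, hM, he⟩ := exists_of_system p L hL hLs
  exact ⟨M, hM, ⟨(he 0).some ≪≫ θ⟩⟩

/-- An invertible module trivial on the closed fibre has roots of every order prime to the residue characteristic,
trivial on the closed fibre. -/
theorem exists_root {q : ℕ} (hq : IsUnit (q : A)) (L : X.Modules) (hL : PicF.IsInvertible L)
    (h0 : Nonempty ((Scheme.Modules.pullback (CohB1.thickι p (IsLocalRing.maximalIdeal A) 0)).obj L ≅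
      Coh.structureModule (CohB1.thick p (IsLocalRing.maximalIdeal A) 0))) :
    ∃ M : X.Modules, PicF.IsInvertible M ∧ Nonempty (CohB1.tensorPow M q ≅ L) ∧
      Nonempty ((Scheme.Modules.pullback (CohB1.thickι p (IsLocalRing.maximalIdeal A) 0)).obj M ≅
        Coh.structureModule (CohB1.thick p (IsLocalRing.maximalIdeal A) 0)) := by
  let I := IsLocalRing.maximalIdeal A
  haveI : ∀ k, IsClosedImmersion (CohB1.thickι p I k) := fun k => AmpleVan.FibreVanish.closed_thickι p I k
  haveI : X.IsSeparated := ⟨by rw [← terminal.comp_from p]; infer_instance⟩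
  let P : ∀ k, (CohB1.thick p I k).Modules → Prop := fun k M => PicF.IsInvertible M ∧
    PicF.cl M ^ q = PicMul.pullHom (CohB1.thickι p I k) (PicF.cl L)
  have hstep : ∀ k (M : (CohB1.thick p I k).Modules), P k M → ∃ M', P (k + 1) M' ∧
      Nonempty ((Scheme.Modules.pullback (CohB1.thickTrans p I k)).obj M' ≅ M) := by
    intro k M hM
    haveI := PicLift.isClosedImmersion_step I (fun k => AmpleVan.FibreVanish.cart p I k) k
    haveI : (CohB1.thick p I (k + 1)).IsSeparated := ⟨by
      rw [← terminal.comp_from (CohB1.thickι p I (k + 1))]; infer_instance⟩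
    haveI : IsAffineHom (pullback.diagonal (terminal.from (CohB1.thick p I (k + 1)))) := inferInstance
    have hn : IsUnit (q : Γ(CohB1.thick p I (k + 1), ⊤)) := by
      simpa using hq.map ((Scheme.ΓSpecIso (CommRingCat.of A)).inv ≫ (CohB1.thickι p I (k + 1) ≫ p).appTop).hom
    let Lk := (Scheme.Modules.pullback (CohB1.thickι p I (k + 1))).obj L
    have hcl : PicF.cl (CohB1.tensorPow M q) =
        PicF.cl ((Scheme.Modules.pullback (CohB1.thickTrans p I k)).obj Lk) := by
      rw [PicMul.cl_tensorPow, hM.2]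
      exact PicMul.cl_eq_iff.2 ⟨(Scheme.Modules.pullbackCongr (AmpleVan.FibreVanish.thickTrans_ι p I k)).symm.app L ≪≫
        ((Scheme.Modules.pullbackComp (CohB1.thickTrans p I k) (CohB1.thickι p I (k + 1))).app L).symm⟩
    obtain ⟨φ⟩ := PicMul.cl_eq_iff.1 hcl
    obtain ⟨M', hM', ⟨e⟩, hres⟩ := exists_root_lift_res
      (sqZero_of_ker (CohB1.thickTrans p I k) (PicLift.ker_sq_step I (fun k => AmpleVan.FibreVanish.cart p I k) k))
      hn (PicClLib.isInvertible_pullback _ hL) hM.1 φ
    exact ⟨M', ⟨hM', by rw [← PicMul.cl_tensorPow]; exact PicMul.cl_eq_iff.2 ⟨e⟩⟩, hres⟩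
  have hbase : P 0 (Coh.structureModule (CohB1.thick p I 0)) :=
    ⟨PicLoc.isInvertible_structureModule _, by
      rw [← PicMul.one_def, one_pow]
      exact (PicMul.cl_eq_iff.2 h0).symm⟩
  choose F hF hFe using hstep
  let S : ∀ k, {M : (CohB1.thick p I k).Modules // P k M} := fun k =>
    Nat.rec (motive := fun k => {M : (CohB1.thick p I k).Modules // P k M}) ⟨_, hbase⟩
      (fun k M => ⟨F k M.1 M.2, hF k M.1 M.2⟩) k
  obtain ⟨M, hM, he⟩ := exists_of_system p (fun k => (S k).1) (fun k => (S k).2.1) (fun k => hFe k (S k).1 (S k).2)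
  obtain ⟨D, hD, eD⟩ := PicInv.exists_inverse hL
  let N := CohB1.tensorMod (CohB1.tensorPow M q) D
  have hN : PicF.IsInvertible N := PicMul.isInvertible_tensor (PicMul.isInvertible_tensorPow hM q) hD
  have hLD : PicF.cl L * PicF.cl D = 1 := PicMul.cl_eq_iff.2 eD
  have htriv : Nonempty (N ≅ Coh.structureModule X) := S11968.result A I le_rfl p N hN fun k => by
    refine PicMul.cl_eq_iff.1 ?_
    show PicMul.pullHom (CohB1.thickι p I k) (PicF.cl N) = 1
    rw [PicMul.cl_tensor, PicMul.cl_tensorPow, map_mul, map_pow,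
      show PicMul.pullHom (CohB1.thickι p I k) (PicF.cl M) = PicF.cl (S k).1 from PicMul.cl_eq_iff.2 (he k),
      (S k).2.2, ← map_mul, hLD, map_one]
  refine ⟨M, hM, PicMul.cl_eq_iff.1 ?_, he 0⟩
  have h1 : PicF.cl (CohB1.tensorPow M q) * PicF.cl D = 1 := PicMul.cl_eq_iff.2 htriv
  exact left_inv_eq_right_inv h1 ((mul_comm _ _).trans hLD)

end Groth.Agent.H26.PicRoot
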